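import Cfsg.Agent.DegreeOrder.L33Values
import Cfsg.Agent.GLTwoThree.SLThree
import Cfsg.Agent.GLTwoThree.Setup
import Cfsg.Agent.QuatCore.GLThree
import Cfsg.Agent.TwoGroup.UniqueInvolution
import Cfsg.Agent.ZStar.Corollaries
import Mathlib

/-!
Simple groups of order 5616: every involution centraliser is GL(2,3), so there is one group.
-/

set_option autoImplicit false

namespace CfsgLib.DegreeOrder.L33

open Cfsg CfsgLib.PrimeGram

universe u v

variable {G : Type u} [Group G] [Finite G]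

/-- In a group of order 27 centralisers have order at least nine. -/
theorem nine_dvd_cent [IsSimpleGroup G] (h : Nat.card G = 5616) {y : G} (hy : orderOf y = 3) :
    9 ∣ Nat.card (Subgroup.centralizer ({y} : Set G)) := by
  haveI : Fact (Nat.Prime 3) := ⟨Nat.prime_three⟩
  obtain ⟨P, hP⟩ := (IsPGroup.of_card (n := 1) (show Nat.card (Subgroup.zpowers y) = 3 ^ 1 by
    rw [Nat.card_zpowers, hy, pow_one])).exists_le_sylow
  have hP27 : Nat.card (P : Subgroup G) = 3 ^ 3 :=
    ((CfsgLib.SmallSimple.card_sylow_constraints (G := G) 3 208 (k := 3)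
      (by rw [h]; norm_num) (by norm_num)).2.2 P).1
  set y' : (P : Subgroup G) := ⟨y, hP (Subgroup.mem_zpowers y)⟩ with hy'
  have ho : orderOf y' = 3 := by rw [← Subgroup.orderOf_coe]; exact hy
  set C := Subgroup.centralizer ({y'} : Set (P : Subgroup G)) with hC
  have hmap : Nat.card C ∣ Nat.card (Subgroup.centralizer ({y} : Set G)) := by
    rw [← Subgroup.card_map_of_injective (f := (P : Subgroup G).subtype) Subtype.val_injective]
    refine Subgroup.card_dvd_of_le ?_
    rintro _ ⟨p, hp, rfl⟩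
    exact Subgroup.mem_centralizer_singleton_iff.mpr
      (congrArg Subtype.val (Subgroup.mem_centralizer_singleton_iff.mp hp))
  obtain ⟨k, hk, hCk⟩ := (Nat.dvd_prime_pow Nat.prime_three).mp
    (hP27 ▸ Subgroup.card_subgroup_dvd_card C)
  refine dvd_trans ?_ hmap
  rw [hCk]
  refine Nat.pow_dvd_pow 3 (show 2 ≤ k from ?_)
  by_contra hk2
  have hle : Subgroup.zpowers y' ≤ C := by
    rw [Subgroup.zpowers_le, hC, Subgroup.mem_centralizer_singleton_iff]
  have hCy : Subgroup.zpowers y' = C := by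
    refine Subgroup.eq_of_le_of_card_ge hle ?_
    rw [hCk, Nat.card_zpowers, ho]
    calc 3 ^ k ≤ 3 ^ 1 := Nat.pow_le_pow_right (by norm_num) (by omega)
      _ = 3 := pow_one 3
  haveI : Nontrivial (P : Subgroup G) :=
    Finite.one_lt_card_iff_nontrivial.mp (by rw [hP27]; norm_num)
  haveI := P.2.center_nontrivial
  have hZC : Subgroup.center (P : Subgroup G) ≤ C := Subgroup.center_le_centralizer _
  have hy'Z : y' ∈ Subgroup.center (P : Subgroup G) := by
    have hd := Subgroup.card_dvd_of_le hZC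
    rw [← hCy, Nat.card_zpowers, ho] at hd
    have heq : Subgroup.center (P : Subgroup G) = C := by
      refine Subgroup.eq_of_le_of_card_ge hZC ?_
      rw [← hCy, Nat.card_zpowers, ho]
      rcases (Nat.dvd_prime Nat.prime_three).mp hd with e | e
      · exact absurd e Finite.one_lt_card.ne'
      · exact e.ge
    rw [heq]
    exact hle (Subgroup.mem_zpowers y')
  have htop : C = ⊤ := by
    refine eq_top_iff.mpr fun p _ => ?_
    rw [hC, Subgroup.mem_centralizer_singleton_iff]
    exact Subgroup.mem_center_iff.mp hy'Z p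
  rw [htop, Subgroup.card_top, hP27] at hCk
  have := Nat.pow_right_injective (le_refl 2 |>.trans (by norm_num)) hCk
  omega

/-- The Klein four-group of regular elements on four points. -/
def klein : Subgroup (Equiv.Perm (Fin 4)) where
  carrier := {σ | σ * σ = 1 ∧ (σ = 1 ∨ ∀ i, σ i ≠ i)}
  one_mem' := ⟨one_mul 1, Or.inl rfl⟩
  mul_mem' := by
    intro a b ha hb
    revert a b
    simp only [Set.mem_setOf_eq]
    decide +kernel
  inv_mem' := by
    intro a ha
    have e : a⁻¹ = a := inv_eq_of_mul_eq_one_right ha.1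
    rw [Set.mem_setOf_eq, e]
    exact ha

theorem mem_klein {σ : Equiv.Perm (Fin 4)} :
    σ ∈ klein ↔ σ * σ = 1 ∧ (σ = 1 ∨ ∀ i, σ i ≠ i) := Iff.rfl

/-- A double transposition. -/
def dbl : Equiv.Perm (Fin 4) := Equiv.swap 0 2 * Equiv.swap 1 3

/-- A transposition. -/
def tra : Equiv.Perm (Fin 4) := Equiv.swap 0 1

/-- The double transposition fixed by `tra`. -/
def fixd : Equiv.Perm (Fin 4) := dbl * (tra * dbl * tra⁻¹)

theorem klein_conj : ∀ σ τ : Equiv.Perm (Fin 4), σ * σ = 1 ∧ (σ = 1 ∨ ∀ i, σ i ≠ i) →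
    (τ * σ * τ⁻¹) * (τ * σ * τ⁻¹) = 1 ∧ (τ * σ * τ⁻¹ = 1 ∨ ∀ i, (τ * σ * τ⁻¹) i ≠ i) := by
  decide +kernel

theorem klein_cent : ∀ σ : Equiv.Perm (Fin 4), (∀ v : Equiv.Perm (Fin 4), v * v = 1 ∧ (v = 1 ∨ ∀ i, v i ≠ i) → v * σ = σ * v) →
    σ * σ = 1 ∧ (σ = 1 ∨ ∀ i, σ i ≠ i) := by
  decide +kernel

theorem klein_trans : ∀ v : Equiv.Perm (Fin 4), v * v = 1 ∧ (v = 1 ∨ ∀ i, v i ≠ i) → v ≠ 1 →
    ∃ σ : Equiv.Perm (Fin 4), σ * dbl * σ⁻¹ = v := by
  decide +kernel

theorem klein_list : ∀ v : Equiv.Perm (Fin 4), v * v = 1 ∧ (v = 1 ∨ ∀ i, v i ≠ i) →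
    v = 1 ∨ v = dbl ∨ v = tra * dbl * tra⁻¹ ∨ v = fixd := by
  decide +kernel

theorem dihedral_split : ∀ σ : Equiv.Perm (Fin 4), σ * fixd = fixd * σ →
    (σ * σ = 1 ∧ (σ = 1 ∨ ∀ i, σ i ≠ i)) ∨
    ((σ * tra⁻¹) * (σ * tra⁻¹) = 1 ∧ (σ * tra⁻¹ = 1 ∨ ∀ i, (σ * tra⁻¹) i ≠ i)) := by
  decide +kernel

theorem klein_facts' : (dbl * dbl = 1 ∧ ∀ i, dbl i ≠ i) ∧ tra * tra = 1 ∧ fixd ≠ 1 ∧
    tra * fixd = fixd * tra ∧ (∀ v : Equiv.Perm (Fin 4), v * v = 1 ∧ (v = 1 ∨ ∀ i, v i ≠ i) →
      v * fixd = fixd * v) := by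
  decide +kernel

instance klein_normal : klein.Normal :=
  ⟨fun σ hσ τ => mem_klein.mpr (klein_conj σ τ (mem_klein.mp hσ))⟩

theorem card_klein : Nat.card klein = 4 := by
  rw [Nat.card_congr (Equiv.subtypeEquivRight fun σ => mem_klein (σ := σ)),
    Nat.card_eq_fintype_card]
  decide +kernel

theorem card_cent_fixd : Nat.card (Subgroup.centralizer ({fixd} : Set (Equiv.Perm (Fin 4)))) = 8 := by
  rw [Nat.card_congr (Equiv.subtypeEquivRight
    fun σ => (Subgroup.mem_centralizer_singleton_iff :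
      σ ∈ Subgroup.centralizer ({fixd} : Set (Equiv.Perm (Fin 4))) ↔ σ * fixd = fixd * σ)),
    Nat.card_eq_fintype_card]
  decide +kernel

/-- The action of an involution centraliser on its four Sylow subgroups of order three. -/
theorem exists_perm_hom [IsSimpleGroup G] (h : Nat.card G = 5616) {z : G} (hz : orderOf z = 2) :
    ∃ ψ : Subgroup.centralizer ({z} : Set G) →* Equiv.Perm (Fin 4), Function.Surjective ψ ∧
      ∀ g, ψ g = 1 ↔ (g : G) = 1 ∨ (g : G) = z := by
  haveI : Fact (Nat.Prime 3) := ⟨Nat.prime_three⟩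
  haveI := Fintype.ofFinite G
  obtain ⟨x, α, β, Y, B⟩ := exists_block h
  set H := Subgroup.centralizer ({z} : Set G) with hH
  have hz1 : z ≠ 1 := fun e => by rw [e, orderOf_one] at hz; omega
  have hz2 : z * z = 1 := by rw [← pow_two, ← hz, pow_orderOf_eq_one]
  have h48 : Nat.card H = 48 := (B.invol h hz1 hz2).2.2.2
  set zH : H := ⟨z, Subgroup.mem_centralizer_singleton_iff.mpr rfl⟩ with hzH
  have hcen : ∀ g : H, g * zH = zH * g := fun g =>
    Subtype.ext (Subgroup.mem_centralizer_singleton_iff.mp g.2)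
  -- centralisers of elements of order three in `H`
  have hsix : ∀ u : H, orderOf u = 3 →
      Nat.card (Subgroup.centralizer ({u} : Set H)) = 6 := by
    intro u hu
    have hd2 : 2 ∣ Nat.card (Subgroup.centralizer ({u} : Set H)) := by
      have ho : orderOf zH = 2 := by rw [← Subgroup.orderOf_coe]; exact hz
      rw [← ho]
      exact Subgroup.orderOf_dvd_natCard _
        (Subgroup.mem_centralizer_singleton_iff.mpr (hcen u).symm)
    have hd3 : 3 ∣ Nat.card (Subgroup.centralizer ({u} : Set H)) :=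
      hu ▸ Subgroup.orderOf_dvd_natCard _ (Subgroup.mem_centralizer_singleton_iff.mpr rfl)
    have hd : Nat.card (Subgroup.centralizer ({u} : Set H)) ∣ 48 :=
      h48 ▸ Subgroup.card_subgroup_dvd_card _
    have huG : orderOf (u : G) = 3 := by rw [Subgroup.orderOf_coe]; exact hu
    have hle : Nat.card (Subgroup.centralizer ({u} : Set H)) ∣
        Nat.card (Subgroup.centralizer ({(u : G)} : Set G)) := by
      rw [← Subgroup.card_map_of_injective (f := H.subtype) Subtype.val_injective]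
      refine Subgroup.card_dvd_of_le ?_
      rintro _ ⟨g, hg, rfl⟩
      exact Subgroup.mem_centralizer_singleton_iff.mpr
        (congrArg Subtype.val (Subgroup.mem_centralizer_singleton_iff.mp hg))
    have h4 : ¬ 4 ∣ Nat.card (Subgroup.centralizer ({u} : Set H)) := fun h4 =>
      B.three_cent h (fun e => by rw [e, orderOf_one] at huG; omega)
        (by rw [← huG, pow_orderOf_eq_one])
        (Nat.Coprime.mul_dvd_of_dvd_of_dvd (show Nat.Coprime 4 9 by norm_num) (h4.trans hle)
          (nine_dvd_cent h huG))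
    have hmem : Nat.card (Subgroup.centralizer ({u} : Set H)) ∈ Nat.divisors 48 :=
      Nat.mem_divisors.mpr ⟨hd, by norm_num⟩
    have key : ∀ n ∈ Nat.divisors 48, 2 ∣ n → 3 ∣ n → ¬ 4 ∣ n → n = 6 := by decide +kernel
    exact key _ hmem hd2 hd3 h4
  obtain ⟨hn16, hn3, hall⟩ := CfsgLib.SmallSimple.card_sylow_constraints (G := H) 3 16 (k := 1)
    (by rw [h48]; norm_num) (by norm_num)
  have hP3 : ∀ P : Sylow 3 H, Nat.card (P : Subgroup H) = 3 := fun P => (hall P).1.trans (pow_one 3)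
  have hgen : ∀ P : Sylow 3 H, ∃ u : H, orderOf u = 3 ∧ Subgroup.zpowers u = (P : Subgroup H) := by
    intro P
    obtain ⟨⟨u, hu⟩, ho⟩ := exists_prime_orderOf_dvd_card' (G := (P : Subgroup H)) 3
      (by rw [hP3 P])
    rw [Subgroup.orderOf_mk] at ho
    exact ⟨u, ho, Subgroup.eq_of_le_of_card_ge (Subgroup.zpowers_le.mpr hu)
      (by rw [Nat.card_zpowers, ho, hP3 P])⟩
  obtain ⟨P₀⟩ := (inferInstance : Nonempty (Sylow 3 H))
  obtain ⟨u₀, hu₀, hz₀⟩ := hgen P₀
  have hCN : ∀ (P : Sylow 3 H) (u : H), Subgroup.zpowers u = (P : Subgroup H) →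
      Subgroup.centralizer ({u} : Set H) ≤ Subgroup.normalizer ((P : Subgroup H) : Set H) := by
    intro P u hu
    rw [← hu, show Subgroup.centralizer ({u} : Set H) =
      Subgroup.centralizer ((Subgroup.zpowers u : Subgroup H) : Set H) by
        rw [Subgroup.zpowers_eq_closure, Subgroup.centralizer_closure]]
    exact Subgroup.centralizer_le_normalizer _
  have h4 : Nat.card (Sylow 3 H) = 4 := by
    have hN := (hall P₀).2
    have h6 := Subgroup.card_dvd_of_le (hCN P₀ u₀ hz₀)
    rw [hsix u₀ hu₀] at h6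
    have hmem : Nat.card (Sylow 3 H) ∈ Nat.divisors 16 :=
      Nat.mem_divisors.mpr ⟨hn16, by norm_num⟩
    have key : ∀ n ∈ Nat.divisors 16, n % 3 = 1 → n = 1 ∨ n = 4 ∨ n = 16 := by decide +kernel
    rcases key _ hmem hn3 with e | e | e
    · exfalso
      haveI : Subsingleton (Sylow 3 H) := (Nat.card_eq_one_iff_unique.mp e).1
      have hsub : (ConjClasses.mk u₀).carrier ⊆ ((P₀ : Subgroup H) : Set H) := by
        intro g hg
        obtain ⟨c, rfl⟩ := isConj_iff.mp
          (ConjClasses.mk_eq_mk_iff_isConj.mp (ConjClasses.mem_carrier_iff_mk_eq.mp hg)).symm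
        have hmem : MulAut.conj c u₀ ∈ ((c • P₀ : Sylow 3 H) : Subgroup H) :=
          ⟨u₀, hz₀ ▸ Subgroup.mem_zpowers u₀, rfl⟩
        rw [Subsingleton.elim (c • P₀) P₀] at hmem
        exact hmem
      have h1 := Set.ncard_le_ncard hsub (Set.toFinite _)
      have h2 := CfsgLib.Chars.card_carrier_mul_card_centralizer u₀
      rw [hsix u₀ hu₀, h48, Nat.card_coe_set_eq] at h2
      rw [← Nat.card_coe_set_eq ((P₀ : Subgroup H) : Set H)] at h1
      have h3 : Nat.card ((P₀ : Subgroup H) : Set H) = 3 := hP3 P₀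
      omega
    · exact e
    · exfalso
      rw [e] at hN
      have : Nat.card (Subgroup.normalizer ((P₀ : Subgroup H) : Set H)) = 3 := by omega
      rw [this] at h6
      norm_num at h6
  have hN12 : ∀ P : Sylow 3 H,
      Nat.card (Subgroup.normalizer ((P : Subgroup H) : Set H)) = 12 := by
    intro P
    have := (hall P).2
    rw [h4] at this
    omega
  set f := MulAction.toPermHom H (Sylow 3 H) with hf
  have hmemK : ∀ g ∈ f.ker, ∀ P : Sylow 3 H,
      g ∈ Subgroup.normalizer ((P : Subgroup H) : Set H) := fun g hg P =>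
    Sylow.smul_eq_iff_mem_normalizer.1 (Equiv.ext_iff.1 (MonoidHom.mem_ker.1 hg) P)
  have hzK : zH ∈ f.ker := by
    rw [MonoidHom.mem_ker]
    refine Equiv.ext fun P => ?_
    show zH • P = P
    refine Sylow.smul_eq_iff_mem_normalizer.2 ?_
    refine Subgroup.centralizer_le_normalizer _ ?_
    rw [Subgroup.mem_centralizer_iff]
    exact fun g _ => hcen g
  have h3K : ¬ 3 ∣ Nat.card f.ker := by
    intro hd
    obtain ⟨⟨b, hbK⟩, hb⟩ := exists_prime_orderOf_dvd_card' 3 hd
    rw [Subgroup.orderOf_mk] at hb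
    have hzp : IsPGroup 3 ↥(Subgroup.zpowers b) :=
      IsPGroup.of_card (n := 1) (by rw [Nat.card_zpowers, hb, pow_one])
    have hall' : ∀ P : Sylow 3 H, (P : Subgroup H) = Subgroup.zpowers b := by
      intro P
      have hle : Subgroup.zpowers b ≤ (P : Subgroup H) :=
        (le_sup_left.trans_eq (P.is_maximal' (hzp.to_sup_of_normal_right' P.isPGroup'
          (Subgroup.zpowers_le.2 (hmemK b hbK P))) le_sup_right) : _)
      exact (Subgroup.eq_of_le_of_card_ge hle (by rw [Nat.card_zpowers, hb, hP3 P])).symm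
    have h1 : Subsingleton (Sylow 3 H) :=
      ⟨fun P Q => Sylow.ext ((hall' P).trans (hall' Q).symm)⟩
    rw [Nat.card_eq_one_iff_unique.2 ⟨h1, inferInstance⟩] at h4
    omega
  have hK2 : Nat.card f.ker = 2 := by
    have hd12 : Nat.card f.ker ∣ 12 :=
      hN12 P₀ ▸ Subgroup.card_dvd_of_le fun g hg => hmemK g hg P₀
    have hd2 : 2 ∣ Nat.card f.ker := by
      have ho : orderOf zH = 2 := by rw [← Subgroup.orderOf_coe]; exact hz
      exact ho ▸ Subgroup.orderOf_dvd_natCard _ hzK
    have key : ∀ n ∈ Nat.divisors 12, 2 ∣ n → ¬ 3 ∣ n → n = 2 ∨ n = 4 := by decide +kernel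
    refine (key _ (Nat.mem_divisors.mpr ⟨hd12, by norm_num⟩) hd2 h3K).resolve_right fun hK4 => ?_
    have hle : f.ker ≤ Subgroup.centralizer ({u₀} : Set H) := by
      intro k hk
      rw [Subgroup.mem_centralizer_singleton_iff]
      have hu0P : u₀ ∈ (P₀ : Subgroup H) := hz₀ ▸ Subgroup.mem_zpowers u₀
      have h1 : k * u₀ * k⁻¹ * u₀⁻¹ ∈ (P₀ : Subgroup H) ⊓ f.ker := by
        refine Subgroup.mem_inf.mpr ⟨mul_mem ((Subgroup.mem_normalizer_iff.1 (hmemK k hk P₀) u₀).1 hu0P)
          (inv_mem hu0P), ?_⟩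
        rw [show k * u₀ * k⁻¹ * u₀⁻¹ = k * (u₀ * k⁻¹ * u₀⁻¹) by group]
        exact f.ker.mul_mem hk ((MonoidHom.normal_ker f).conj_mem _ (f.ker.inv_mem hk) u₀)
      rw [Subgroup.inf_eq_bot_of_coprime (by rw [hP3, hK4]; norm_num), Subgroup.mem_bot,
        mul_inv_eq_one, mul_inv_eq_iff_eq_mul] at h1
      exact h1
    have := Subgroup.card_dvd_of_le hle
    rw [hK4, hsix u₀ hu₀] at this
    norm_num at this
  have hrange : Function.Surjective f := by
    rw [← MonoidHom.range_eq_top]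
    refine Subgroup.eq_top_of_card_eq _ ?_
    have h1 := f.ker.card_mul_index
    rw [Subgroup.index_ker, hK2, h48] at h1
    rw [Nat.card_perm, h4]
    simp only [Nat.factorial]
    omega
  set e := Finite.equivFinOfCardEq h4
  refine ⟨e.permCongrHom.toMonoidHom.comp f, e.permCongrHom.surjective.comp hrange, fun g => ?_⟩
  rw [MonoidHom.comp_apply, MulEquiv.coe_toMonoidHom, MulEquiv.map_eq_one_iff, ← MonoidHom.mem_ker]
  have hker : f.ker = Subgroup.zpowers zH := by
    refine (Subgroup.eq_of_le_of_card_ge (Subgroup.zpowers_le.mpr hzK) ?_).symm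
    rw [Nat.card_zpowers, hK2, ← Subgroup.orderOf_coe]
    exact hz.ge
  rw [hker]
  constructor
  · rintro ⟨n, rfl⟩
    show ((zH ^ n : H) : G) = 1 ∨ ((zH ^ n : H) : G) = z
    rw [SubgroupClass.coe_zpow]
    show z ^ n = 1 ∨ z ^ n = z
    have hz2' : z ^ (2 : ℤ) = 1 := by rw [zpow_two]; exact hz2
    rcases Int.even_or_odd' n with ⟨l, rfl | rfl⟩
    · left; rw [zpow_mul, hz2', one_zpow]
    · right; rw [zpow_add_one, zpow_mul, hz2', one_zpow, one_mul]
  · rintro (e | e)
    · rw [show g = 1 from Subtype.ext e]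
      exact one_mem _
    · rw [show g = zH from Subtype.ext e]
      exact Subgroup.mem_zpowers zH

/-- A subgroup of order sixteen is a Sylow 2-subgroup. -/
theorem exists_sylow_two (h : Nat.card G = 5616) (T : Subgroup G) (hT : Nat.card T = 16) :
    ∃ S : Sylow 2 G, (S : Subgroup G) = T := by
  haveI : Fact (Nat.Prime 2) := ⟨Nat.prime_two⟩
  refine ⟨Sylow.ofCard T ?_, Sylow.coe_ofCard _ _⟩
  rw [hT, h, show (5616 : ℕ) = 2 ^ 4 * 351 by norm_num,
    Nat.factorization_mul (by norm_num) (by norm_num), Finsupp.add_apply,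
    Nat.prime_two.factorization_pow, Finsupp.single_eq_same,
    Nat.factorization_eq_zero_of_not_dvd (by norm_num)]
  norm_num

/-- A product of commuting elements in conjugation form. -/
theorem comm_calc {H : Type*} [Group H] {R : Subgroup H}
    (hR : ∀ p ∈ R, ∀ q ∈ R, p * q = q * p) {w : H} (hwR : ∀ p ∈ R, w * p * w⁻¹ ∈ R) {r r' : H}
    (hr : r ∈ R) (hr' : r' ∈ R) :
    r * r' * r⁻¹ * r'⁻¹ = 1 ∧
      r * w * r' * (r * w)⁻¹ * r'⁻¹ = w * r' * w⁻¹ * r'⁻¹ ∧
      r * (r' * w) * r⁻¹ * (r' * w)⁻¹ = w * r⁻¹ * w⁻¹ * (r⁻¹)⁻¹ ∧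
      r * w * (r' * w) * (r * w)⁻¹ * (r' * w)⁻¹ =
        w * (r' * r⁻¹) * w⁻¹ * (r' * r⁻¹)⁻¹ := by
  refine ⟨?_, ?_, ?_, ?_⟩
  · rw [hR r hr r' hr', mul_inv_cancel_right, mul_inv_cancel]
  · calc r * w * r' * (r * w)⁻¹ * r'⁻¹ = r * (w * r' * w⁻¹) * r⁻¹ * r'⁻¹ := by group
      _ = w * r' * w⁻¹ * r * r⁻¹ * r'⁻¹ := by rw [hR r hr _ (hwR r' hr')]
      _ = _ := by group
  · calc r * (r' * w) * r⁻¹ * (r' * w)⁻¹ = (r * r') * (w * r⁻¹ * w⁻¹) * r'⁻¹ := by group
      _ = w * r⁻¹ * w⁻¹ * (r * r') * r'⁻¹ := by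
          rw [hR _ (mul_mem hr hr') _ (hwR _ (inv_mem hr))]
      _ = _ := by group
  · calc r * w * (r' * w) * (r * w)⁻¹ * (r' * w)⁻¹
          = r * (w * (r' * r⁻¹) * w⁻¹) * r'⁻¹ := by group
      _ = w * (r' * r⁻¹) * w⁻¹ * (r * r'⁻¹) := by
          rw [hR r hr _ (hwR _ (mul_mem hr' (inv_mem hr)))]; group
      _ = _ := by group

/-- The involution centralisers are GL(2,3). -/
theorem centralizer_gl [IsSimpleGroup G] (h : Nat.card G = 5616) {z : G} (hz : orderOf z = 2) :
    Nonempty (Subgroup.centralizer ({z} : Set G) ≃* CfsgLib.GLTwoThree.M23) := by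
  haveI : Fact (Nat.Prime 2) := ⟨Nat.prime_two⟩
  obtain ⟨x, α, β, Y, B⟩ := exists_block h
  have kc := klein_cent
  have kt := klein_trans
  have kl := klein_list
  have kd := dihedral_split
  obtain ⟨⟨hdd, hdf⟩, htt, hfx1, htfx, hkfx⟩ := klein_facts'
  set H := Subgroup.centralizer ({z} : Set G) with hH
  obtain ⟨ψ, hsur, hker⟩ : ∃ ψ : H →* Equiv.Perm (Fin 4), Function.Surjective ψ ∧
      ∀ g : H, ψ g = 1 ↔ (g : G) = 1 ∨ (g : G) = z := exists_perm_hom h hz
  have hz1 : z ≠ 1 := fun e => by rw [e, orderOf_one] at hz; omega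
  have hz2 : z * z = 1 := by rw [← pow_two, ← hz, pow_orderOf_eq_one]
  have h48 : Nat.card H = 48 := (B.invol h hz1 hz2).2.2.2
  have hkc : ∀ k : H, ψ k = 1 → k * k = 1 ∧ ∀ g : H, g * k = k * g := by
    intro k hk
    rcases (hker k).mp hk with e | e
    · rw [show k = 1 from Subtype.ext e]
      exact ⟨one_mul 1, fun g => by rw [one_mul, mul_one]⟩
    · refine ⟨Subtype.ext (by rw [Subgroup.coe_mul, e, hz2]; rfl), fun g => Subtype.ext ?_⟩
      rw [Subgroup.coe_mul, Subgroup.coe_mul, e]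
      exact Subgroup.mem_centralizer_singleton_iff.mp g.2
  set R := klein.comap ψ with hRdef
  have hRcard : Nat.card R = 8 := by
    have h1 := R.card_mul_index
    rw [hRdef, Subgroup.index_comap_of_surjective _ hsur, h48] at h1
    have h2 := klein.card_mul_index
    rw [card_klein, Nat.card_perm, Nat.card_fin] at h2
    simp only [Nat.factorial] at h2
    rw [show klein.index = 6 by omega] at h1
    rw [hRdef]
    omega
  have hRmem : ∀ r : H, r ∈ R ↔ ψ r * ψ r = 1 ∧ (ψ r = 1 ∨ ∀ i, ψ r i ≠ i) := fun r => Iff.rfl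
  have hC : Subgroup.centralizer (R : Set H) ≤ R := by
    intro g hg
    refine (hRmem g).mpr (kc (ψ g) fun v hv => ?_)
    obtain ⟨r, rfl⟩ := hsur v
    rw [← map_mul, ← map_mul, Subgroup.mem_centralizer_iff.mp hg r ((hRmem r).mpr hv)]
  obtain ⟨a, ha⟩ := hsur dbl
  have haR : a ∈ R := (hRmem a).mpr (by rw [ha]; exact ⟨hdd, Or.inr hdf⟩)
  have hsq : ∀ r ∈ R, ψ r ≠ 1 → ∃ g : H, r * r = g * (a * a) * g⁻¹ := by
    intro r hr hne
    obtain ⟨σ, hσ⟩ := kt (ψ r) ((hRmem r).mp hr) hne
    obtain ⟨g, rfl⟩ := hsur σ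
    have hk : ψ ((g * a * g⁻¹)⁻¹ * r) = 1 := by
      rw [map_mul, map_inv, map_mul, map_mul, map_inv, ha, hσ, inv_mul_cancel]
    obtain ⟨hk2, hkcen⟩ := hkc _ hk
    refine ⟨g, ?_⟩
    calc r * r = (g * a * g⁻¹) * (((g * a * g⁻¹)⁻¹ * r) * (g * a * g⁻¹)) *
          ((g * a * g⁻¹)⁻¹ * r) := by group
      _ = (g * a * g⁻¹) * ((g * a * g⁻¹) * ((g * a * g⁻¹)⁻¹ * r)) *
          ((g * a * g⁻¹)⁻¹ * r) := by rw [hkcen (g * a * g⁻¹)]
      _ = g * (a * a) * g⁻¹ * (((g * a * g⁻¹)⁻¹ * r) * ((g * a * g⁻¹)⁻¹ * r)) := by group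
      _ = _ := by rw [hk2, mul_one]
  have haa : ψ (a * a) = 1 := by rw [map_mul, ha, hdd]
  rcases (hker (a * a)).mp haa with e2 | e2
  · -- an elementary abelian core: excluded by fusion in a Sylow normaliser
    exfalso
    have e2' : a * a = 1 := Subtype.ext e2
    have hexp : ∀ r ∈ R, r * r = 1 := by
      intro r hr
      by_cases hne : ψ r = 1
      · exact (hkc r hne).1
      · obtain ⟨g, hg⟩ := hsq r hr hne
        rw [hg, e2', mul_one, mul_inv_cancel]
    have hinv : ∀ r ∈ R, r⁻¹ = r := fun r hr => inv_eq_of_mul_eq_one_right (hexp r hr)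
    have hab : ∀ p ∈ R, ∀ q ∈ R, p * q = q * p := fun p hp q hq => by
      rw [← hinv _ (mul_mem hp hq), mul_inv_rev, hinv p hp, hinv q hq]
    obtain ⟨w, hw⟩ := hsur tra
    have hwR : ∀ p ∈ R, w * p * w⁻¹ ∈ R := fun p hp => by
      haveI : R.Normal := hRdef ▸ inferInstance
      exact (inferInstance : R.Normal).conj_mem p hp w
    set a' := w * a * w⁻¹ with ha'
    set v := a * a' with hv
    have hψv : ψ v = fixd := by
      rw [hv, ha', map_mul, map_mul, map_mul, map_inv, ha, hw]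
      rfl
    have hvR : v ∈ R := mul_mem haR (hwR a haR)
    have hww : ψ (w * w) = 1 := by rw [map_mul, hw, htt]
    have hwa' : w * a' * w⁻¹ = a := by
      calc w * a' * w⁻¹ = (w * w) * a * (w * w)⁻¹ := by rw [ha']; group
        _ = a * (w * w) * (w * w)⁻¹ := by rw [(hkc _ hww).2 a]
        _ = a := by group
    have hwv : w * v * w⁻¹ = v := by
      calc w * v * w⁻¹ = (w * a * w⁻¹) * (w * a' * w⁻¹) := by rw [hv]; group
        _ = a' * a := by rw [hwa', ← ha']
        _ = v := by rw [hv, hab a' (hwR a haR) a haR]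
    have hone : ∀ r ∈ R, w * r * w⁻¹ * r⁻¹ = 1 ∨ w * r * w⁻¹ * r⁻¹ = v := by
      intro r hr
      have key : ∀ p ∈ R, ψ p = ψ r → w * p * w⁻¹ * p⁻¹ = w * r * w⁻¹ * r⁻¹ := by
        intro p hp hpr
        have hk : ψ (r⁻¹ * p) = 1 := by rw [map_mul, map_inv, hpr, inv_mul_cancel]
        have hkc' := (hkc _ hk).2
        calc w * p * w⁻¹ * p⁻¹ = w * r * ((r⁻¹ * p) * w⁻¹) * (r⁻¹ * p)⁻¹ * r⁻¹ := by group
          _ = w * r * (w⁻¹ * (r⁻¹ * p)) * (r⁻¹ * p)⁻¹ * r⁻¹ := by rw [hkc' w⁻¹]
          _ = _ := by group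
      rcases kl (ψ r) ((hRmem r).mp hr) with e | e | e | e
      · left
        rw [← key 1 (one_mem R) (by rw [map_one, e])]
        group
      · right
        rw [← key a haR (by rw [ha, e]), ← ha', hinv a haR, hv, hab a' (hwR a haR) a haR]
      · right
        rw [← key a' (hwR a haR) (by rw [ha', map_mul, map_mul, map_inv, ha, hw, e]), hwa',
          hinv a' (hwR a haR), hv]
      · left
        rw [← key v hvR (by rw [hψv, e]), hwv, mul_inv_cancel]
    set S₀ := (Subgroup.centralizer ({fixd} : Set (Equiv.Perm (Fin 4)))).comap ψ with hS₀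
    have hS₀card : Nat.card S₀ = 16 := by
      have h1 := S₀.card_mul_index
      rw [hS₀, Subgroup.index_comap_of_surjective _ hsur, h48] at h1
      have h2 := (Subgroup.centralizer ({fixd} : Set (Equiv.Perm (Fin 4)))).card_mul_index
      rw [card_cent_fixd, Nat.card_perm, Nat.card_fin] at h2
      simp only [Nat.factorial] at h2
      rw [show (Subgroup.centralizer ({fixd} : Set (Equiv.Perm (Fin 4)))).index = 3 by omega] at h1
      rw [hS₀]
      omega
    have hRS : ∀ r ∈ R, r ∈ S₀ := fun r hr =>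
      Subgroup.mem_centralizer_singleton_iff.mpr (hkfx (ψ r) ((hRmem r).mp hr))
    have hwS : w ∈ S₀ := Subgroup.mem_centralizer_singleton_iff.mpr (by rw [hw]; exact htfx)
    have hsplit : ∀ s ∈ S₀, ∃ r ∈ R, s = r ∨ s = r * w := by
      intro s hs
      rcases kd (ψ s) (Subgroup.mem_centralizer_singleton_iff.mp hs) with e | e
      · exact ⟨s, (hRmem s).mpr e, Or.inl rfl⟩
      · refine ⟨s * w⁻¹, (hRmem _).mpr ?_, Or.inr (inv_mul_cancel_right s w).symm⟩
        rwa [map_mul, map_inv, hw]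
    have hcomm : ∀ s ∈ S₀, ∀ t ∈ S₀,
        s * t * s⁻¹ * t⁻¹ = 1 ∨ s * t * s⁻¹ * t⁻¹ = v := by
      intro s hs t ht
      obtain ⟨r, hr, hs'⟩ := hsplit s hs
      obtain ⟨r', hr', ht'⟩ := hsplit t ht
      obtain ⟨c1, c2, c3, c4⟩ := comm_calc hab hwR hr hr'
      rcases hs' with e | e <;> rcases ht' with e' | e' <;> rw [e, e']
      · exact Or.inl c1
      · rw [c3]; exact hone _ (inv_mem hr)
      · rw [c2]; exact hone _ hr'
      · rw [c4]; exact hone _ (mul_mem hr' (inv_mem hr))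
    have hvS : ∀ s ∈ S₀, s * v = v * s := by
      intro s hs
      obtain ⟨r, hr, rfl | rfl⟩ := hsplit s hs
      · exact hab _ hr v hvR
      · calc r * w * v = r * (w * v * w⁻¹) * w := by group
          _ = v * r * w := by rw [hwv, hab r hr v hvR]
          _ = _ := by group
    obtain ⟨S, hS⟩ := exists_sylow_two h (S₀.map H.subtype)
      (by rw [Subgroup.card_map_of_injective Subtype.val_injective, hS₀card])
    have hzS : z ∈ Subgroup.centralizer ((S : Subgroup G) : Set G) := by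
      rw [Subgroup.mem_centralizer_iff, hS]
      rintro _ ⟨s, -, rfl⟩
      exact Subgroup.mem_centralizer_singleton_iff.mp s.2
    have hvS' : (v : G) ∈ Subgroup.centralizer ((S : Subgroup G) : Set G) := by
      rw [Subgroup.mem_centralizer_iff, hS]
      rintro _ ⟨s, hs, rfl⟩
      exact congrArg Subtype.val (hvS s hs)
    have hv1 : (v : G) ≠ 1 := fun e => by
      rw [show v = 1 from Subtype.ext e, map_one] at hψv
      exact hfx1 hψv.symm
    have hv2 : (v : G) * (v : G) = 1 := congrArg Subtype.val (hexp v hvR)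
    obtain ⟨g, hg⟩ := isConj_iff.mp (B.invol_conj h hz1 hz2 hv1 hv2)
    obtain ⟨n, hn, hnv⟩ := S.conj_eq_normalizer_conj_of_mem_centralizer z g⁻¹ hzS
      (by rw [inv_inv, hg]; exact hvS')
    rw [inv_inv, hg] at hnv
    -- `n` carries the commutator `v` to `z`
    have hz' : z = n * (v : G) * n⁻¹ := by rw [hnv]; group
    obtain ⟨hwn, han⟩ :
        n * (w : G) * n⁻¹ ∈ S₀.map H.subtype ∧ n * (a : G) * n⁻¹ ∈ S₀.map H.subtype := by
      rw [← hS]
      exact ⟨(Subgroup.mem_normalizer_iff.mp hn _).mp (hS ▸ ⟨w, hwS, rfl⟩),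
        (Subgroup.mem_normalizer_iff.mp hn _).mp (hS ▸ ⟨a, hRS a haR, rfl⟩)⟩
    obtain ⟨s, hs, hse⟩ := hwn
    obtain ⟨t, ht, hte⟩ := han
    have hvca : v = w * a * w⁻¹ * a⁻¹ := by rw [hinv a haR, hv, hab a haR a' (hwR a haR)]
    have hzst : z = ((s * t * s⁻¹ * t⁻¹ : H) : G) := by
      simp only [Subgroup.coe_mul, Subgroup.coe_inv]
      rw [show ((s : G)) = n * (w : G) * n⁻¹ from hse, show ((t : G)) = n * (a : G) * n⁻¹ from hte,
        hz', hvca]
      simp only [Subgroup.coe_mul, Subgroup.coe_inv]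
      group
    rcases hcomm s hs t ht with e | e <;> rw [e] at hzst
    · exact hz1 hzst
    · have : ψ v = 1 := (hker v).mpr (Or.inr hzst.symm)
      exact hfx1 (hψv ▸ this)
  · -- a quaternion core
    have hone : CfsgLib.TwoGroup.AtMostOneInvolution R := by
      have huniq : ∀ r : R, orderOf r = 2 → ((r : H) : G) = z := by
        intro r ho
        have hrr : (r : H) * r = 1 := by
          have := pow_orderOf_eq_one r
          rw [ho, pow_two] at this
          exact congrArg Subtype.val this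
        by_cases hne : ψ (r : H) = 1
        · refine ((hker _).mp hne).resolve_left fun e => ?_
          rw [show r = 1 from Subtype.ext (Subtype.ext e), orderOf_one] at ho
          omega
        · exfalso
          obtain ⟨g, hg⟩ := hsq _ r.2 hne
          rw [hrr] at hg
          have : (g * (a * a) * g⁻¹ : H) = a * a := by
            rw [(hkc _ haa).2 g, mul_inv_cancel_right]
          rw [this] at hg
          exact hz1 (e2.symm.trans (congrArg Subtype.val hg.symm))
      intro p q hp hq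
      exact Subtype.ext (Subtype.ext ((huniq p hp).trans (huniq q hq).symm))
    have h2R : IsPGroup 2 R := IsPGroup.of_card (n := 3) (by rw [hRcard]; norm_num)
    obtain ⟨eR⟩ : Nonempty (R ≃* QuaternionGroup 2) := by
      rcases CfsgLib.TwoGroup.cyclic_or_quaternion h2R hone with hc | ⟨k, hk, ⟨e⟩⟩
      · exfalso
        obtain ⟨g, hg⟩ := IsCyclic.exists_generator (α := R)
        have hg8 : orderOf g = 8 := by rw [orderOf_eq_card_of_forall_mem_zpowers hg, hRcard]
        have hg4 : g ^ 4 = 1 := by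
          refine Subtype.ext ?_
          show (g : H) ^ 4 = 1
          have hk1 : ψ ((g : H) * g) = 1 := by rw [map_mul]; exact ((hRmem _).mp g.2).1
          rw [show 4 = 2 * 2 from rfl, pow_mul, pow_two, pow_two]
          exact (hkc _ hk1).1
        have := orderOf_dvd_of_pow_eq_one hg4
        rw [hg8] at this
        norm_num at this
      · haveI : NeZero (2 ^ k) := ⟨by positivity⟩
        have hc := Nat.card_congr e.toEquiv
        rw [hRcard, Nat.card_eq_fintype_card, QuaternionGroup.card] at hc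
        have h2 : 2 ^ k = 2 := by omega
        rw [h2] at e
        exact ⟨e⟩
    haveI : R.Normal := hRdef ▸ inferInstance
    rcases CfsgLib.QuatCore.gl_or_binary eR hC h48 with he | ⟨-, -, hP⟩
    · exact he
    · exfalso
      obtain ⟨P⟩ := (inferInstance : Nonempty (Sylow 2 H))
      obtain ⟨eP⟩ := hP P
      have hP16 : Nat.card ((P : Subgroup H).map H.subtype) = 16 := by
        rw [Subgroup.card_map_of_injective Subtype.val_injective, Nat.card_congr eP.toEquiv,
          Nat.card_eq_fintype_card, QuaternionGroup.card]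
      obtain ⟨S, hS⟩ := exists_sylow_two h _ hP16
      let eS : (S : Subgroup G) ≃* QuaternionGroup (2 ^ (1 + 1)) :=
        ((MulEquiv.subgroupCongr hS).trans
          (((P : Subgroup H).equivMapOfInjective H.subtype Subtype.val_injective).symm)).trans eP
      have h2 := CfsgLib.ZStar.card_center_eq_two_of_quaternion S 1 eS (fun N hN hodd => by
        rcases hN.eq_bot_or_eq_top with e | e
        · exact e
        · rw [e, Subgroup.card_top, h] at hodd
          exact absurd hodd (by decide))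
      rcases (Subgroup.center G).normal_of_characteristic.eq_bot_or_eq_top with e | e
      · rw [e, Subgroup.card_bot] at h2; omega
      · rw [e, Subgroup.card_top, h] at h2; omega

/-- Projective special linear groups over isomorphic fields. -/
theorem psl_field_congr {F : Type u} [Field F] {K : Type v} [Field K] (e : F ≃+* K) :
    Nonempty (Matrix.ProjectiveSpecialLinearGroup (Fin 3) F ≃*
      Matrix.ProjectiveSpecialLinearGroup (Fin 3) K) := by
  let f : Matrix.SpecialLinearGroup (Fin 3) F ≃* Matrix.SpecialLinearGroup (Fin 3) K :=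
    { toFun := Matrix.SpecialLinearGroup.map e.toRingHom
      invFun := Matrix.SpecialLinearGroup.map e.symm.toRingHom
      left_inv := fun g => by ext i j; simp
      right_inv := fun g => by ext i j; simp
      map_mul' := map_mul _ }
  refine ⟨QuotientGroup.congr _ _ f ?_⟩
  ext g
  constructor
  · rintro ⟨a, ha, rfl⟩
    refine Subgroup.mem_center_iff.mpr fun b => f.symm.injective ?_
    show f.symm (b * f a) = f.symm (f a * b)
    rw [map_mul, map_mul, MulEquiv.symm_apply_apply]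
    exact Subgroup.mem_center_iff.mp ha _
  · intro hg
    refine ⟨f.symm g, Subgroup.mem_center_iff.mpr fun b => f.injective ?_,
      MulEquiv.apply_symm_apply _ _⟩
    rw [map_mul, map_mul, MulEquiv.apply_symm_apply]
    exact Subgroup.mem_center_iff.mp hg _

/-- A simple group of order 5616 is a projective special linear group over three elements. -/
theorem iso_psl_5616 [IsSimpleGroup G] (h : Nat.card G = 5616) :
    ∃ (F : Type) (_ : Field F) (_ : Fintype F), Fintype.card F = 3 ∧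
      Nonempty (G ≃* Matrix.ProjectiveSpecialLinearGroup (Fin 3) F) := by
  obtain ⟨z, hz⟩ := exists_prime_orderOf_dvd_card' (G := G) 2 (hp := ⟨Nat.prime_two⟩)
    (by rw [h]; norm_num)
  obtain ⟨e⟩ := centralizer_gl h hz
  have hidx : ∀ M : Subgroup G, M.Normal → M.index ≠ 2 := by
    intro M hM h2
    rcases hM.eq_bot_or_eq_top with rfl | rfl
    · rw [Subgroup.index_bot, h] at h2; omega
    · rw [Subgroup.index_top] at h2; omega
  obtain ⟨ι, hyp⟩ := CfsgLib.GLTwoThree.exists_hyp z hz e hidx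
  exact hyp.iso_psl h

/-- There is only one simple group of order 5616. -/
theorem nonempty_mulEquiv_5616 [IsSimpleGroup G] {H : Type v} [Group H] [Finite H]
    [IsSimpleGroup H] (hG : Nat.card G = 5616) (hH : Nat.card H = 5616) :
    Nonempty (G ≃* H) := by
  obtain ⟨F, _, _, hF, ⟨e⟩⟩ := iso_psl_5616 hG
  obtain ⟨K, _, _, hK, ⟨e'⟩⟩ := iso_psl_5616 hH
  obtain ⟨f⟩ := psl_field_congr (FiniteField.ringEquivOfCardEq (hF.trans hK.symm))
  exact ⟨(e.trans f).trans e'.symm⟩

end CfsgLib.DegreeOrder.L33
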