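import Cfsg.Agent.DegreeOrder.Radical
import Cfsg.Agent.S0494
import Cfsg.Agent.S0495
import Cfsg.Agent.S0497
import Cfsg.Agent.S0498
import Cfsg.Agent.S0981
import Cfsg.Agent.S1011
import Cfsg.Agent.S1020
import Cfsg.Agent.S1021
import Cfsg.Agent.Sl2Chars.DegreeSet
import Cfsg.Agent.PSL2Spectrum.DegreeFacts
import Cfsg.Agent.Classical.Linear.Simple
import Cfsg.Agent.Chars.Induced.Clifford
import Cfsg.Agent.A7Order.Table
import Mathlib.FieldTheory.Finite.GaloisField

/-!
# Degrees of the simple groups of small order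
-/

set_option autoImplicit false
set_option linter.style.haveILetI false

namespace CfsgLib.DegreeOrder

open Cfsg CfsgLib.Chars CfsgLib.Chars.Induced

universe u

theorem mem_degreePrimes_of_dvd {G : Type u} [Group G] {d p : ℕ} (hd : d ∈ charDegrees G) (hp : p.Prime)
    (h : p ∣ d) : p ∈ degreePrimes G :=
  ⟨hp, d, hd, h⟩

/-- Some degree of a group is a multiple of any degree of a normal subgroup. -/
theorem exists_dvd_charDegree {G : Type u} [Group G] [Finite G] {N : Subgroup G} [N.Normal]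
    (θ : IrrCharacter N) :
    ∃ χ : IrrCharacter G, charDegree (θ : N → ℂ) ∣ charDegree (χ : G → ℂ) := by
  classical
  haveI := Fintype.ofFinite G
  haveI := Fintype.ofFinite N
  obtain ⟨χ, hχ⟩ := exists_mult_ne_zero (isCharacter_indFun N (isCharacter_coe θ)) fun h => by
    have h1 := congrFun h 1
    rw [indFun_one_apply, Pi.zero_apply, mul_eq_zero] at h1
    rcases h1 with h1 | h1
    · exact Nat.cast_ne_zero.2 (Subgroup.index_ne_zero_of_finite) h1
    · exact map_one_ne_zero θ h1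
  rw [mult_indFun_irr] at hχ
  refine ⟨χ, mult (fun n : N => (χ : G → ℂ) n) θ * (inertia N (θ : N → ℂ)).index, ?_⟩
  have h := clifford_one χ θ hχ
  rw [← coe_charDegree, ← coe_charDegree] at h
  rw [mul_comm]
  exact_mod_cast h

section Psl

variable {S : Type u} [Group S] [Finite S] [IsSimpleGroup S]

instance fact_prime_seven : Fact (Nat.Prime 7) := ⟨by norm_num⟩
instance fact_prime_eleven : Fact (Nat.Prime 11) := ⟨by norm_num⟩
instance fact_prime_thirteen : Fact (Nat.Prime 13) := ⟨by norm_num⟩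
instance fact_prime_seventeen : Fact (Nat.Prime 17) := ⟨by norm_num⟩
instance fact_prime_nineteen : Fact (Nat.Prime 19) := ⟨by norm_num⟩

theorem degrees_168 (h : Nat.card S = 168) :
    6 ∈ charDegrees S ∧ 7 ∈ charDegrees S ∧ 8 ∈ charDegrees S := by
  classical
  have e := Cfsg.Agent.S0495.result h (F := ZMod 7) (ZMod.card 7)
  obtain ⟨⟨h0, h1, h2⟩, -⟩ := CfsgLib.Sl2Chars.charDegrees_facts (Or.inl e)
    (Or.inl (by rw [ZMod.card]; norm_num))
  rw [ZMod.card] at h0 h1 h2
  exact ⟨h2, h0, h1⟩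

theorem degrees_360 (h : Nat.card S = 360) :
    10 ∈ charDegrees S ∧ ∀ d ∈ charDegrees S, ¬ 6 ∣ d := by
  classical
  let F := GaloisField 3 2
  letI : Fintype F := Fintype.ofFinite F
  have hF : Fintype.card F = 9 := by
    rw [← Nat.card_eq_fintype_card]
    exact (GaloisField.card 3 2 (by norm_num)).trans (by norm_num)
  haveI : IsSimpleGroup (Matrix.ProjectiveSpecialLinearGroup (Fin 2) F) :=
    CfsgLib.Classical.Linear.isSimpleGroup_psl_fin le_rfl fun _ => by
      rw [Nat.card_eq_fintype_card, hF]; norm_num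
  have hc : Nat.card (Matrix.ProjectiveSpecialLinearGroup (Fin 2) F) = 360 := by
    have h' := CfsgLib.Dickson.psl_card_mul_two (F := F) (by rw [hF]; decide)
    rw [hF] at h'
    omega
  obtain ⟨e1⟩ := Cfsg.Agent.S0497.result h
  obtain ⟨e2⟩ := Cfsg.Agent.S0497.result hc
  let e : S ≃* Matrix.ProjectiveSpecialLinearGroup (Fin 2) F := e1.trans e2.symm
  obtain ⟨⟨-, h1, -⟩, -⟩ := CfsgLib.Sl2Chars.charDegrees_facts (Or.inl ⟨e⟩) (Or.inl (by rw [hF]; norm_num))
  rw [hF] at h1
  refine ⟨h1, fun d hd h6 => ?_⟩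
  rw [CfsgLib.Sl2Chars.charDegrees_congr e] at hd
  obtain ⟨χ, rfl⟩ := hd
  have hmem := CfsgLib.PSL2Spectrum.psl_degrees (F := F) (by rw [hF]) (by rw [hF]; norm_num) χ
  rw [hF] at hmem
  simp only [Finset.mem_insert, Finset.mem_singleton] at hmem
  omega

theorem degrees_504 (h : Nat.card S = 504) :
    7 ∈ charDegrees S ∧ 8 ∈ charDegrees S ∧ ∀ d ∈ charDegrees S, ¬ 6 ∣ d := by
  classical
  let F := GaloisField 2 3
  letI : Fintype F := Fintype.ofFinite F
  have hF : Fintype.card F = 8 := by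
    rw [← Nat.card_eq_fintype_card]
    exact (GaloisField.card 2 3 (by norm_num)).trans (by norm_num)
  have e := Cfsg.Agent.S1011.result h (F := F) hF
  obtain ⟨⟨h0, -, h2⟩, hsub⟩ := CfsgLib.Sl2Chars.charDegrees_facts (Or.inl e)
    (Or.inr ⟨by rw [hF]; norm_num, inferInstance⟩)
  rw [hF] at h0 h2
  refine ⟨h2, h0, fun d hd h6 => ?_⟩
  rcases CfsgLib.Sl2Chars.charDegrees_cases (hsub hd) with e | e | e | e | ⟨h20, -⟩
  · omega
  · omega
  · omega
  · omega
  · exact h20 CharTwo.two_eq_zero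

theorem degrees_660 (h : Nat.card S = 660) : 11 ∈ charDegrees S := by
  classical
  have e := Cfsg.Agent.S0498.result (G := S) 11 (Or.inl rfl) (by rw [h]; norm_num) (F := ZMod 11) (ZMod.card 11)
  obtain ⟨⟨h0, -, -⟩, -⟩ := CfsgLib.Sl2Chars.charDegrees_facts (Or.inl e)
    (Or.inl (by rw [ZMod.card]; norm_num))
  rwa [ZMod.card] at h0

theorem degrees_1092 (h : Nat.card S = 1092) : 13 ∈ charDegrees S := by
  classical
  have e := Cfsg.Agent.S0498.result (G := S) 13 (Or.inr rfl) (by rw [h]; norm_num) (F := ZMod 13) (ZMod.card 13)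
  obtain ⟨⟨h0, -, -⟩, -⟩ := CfsgLib.Sl2Chars.charDegrees_facts (Or.inl e)
    (Or.inl (by rw [ZMod.card]; norm_num))
  rwa [ZMod.card] at h0

theorem degrees_2448 (h : Nat.card S = 2448) : 17 ∈ charDegrees S := by
  classical
  have e := Cfsg.Agent.S1020.result h (F := ZMod 17) (ZMod.card 17)
  obtain ⟨⟨h0, -, -⟩, -⟩ := CfsgLib.Sl2Chars.charDegrees_facts (Or.inl e)
    (Or.inl (by rw [ZMod.card]; norm_num))
  rwa [ZMod.card] at h0

theorem degrees_3420 (h : Nat.card S = 3420) : 19 ∈ charDegrees S := by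
  classical
  have e := Cfsg.Agent.S1021.result h (F := ZMod 19) (ZMod.card 19)
  obtain ⟨⟨h0, -, -⟩, -⟩ := CfsgLib.Sl2Chars.charDegrees_facts (Or.inl e)
    (Or.inl (by rw [ZMod.card]; norm_num))
  rwa [ZMod.card] at h0

theorem degrees_4080 (h : Nat.card S = 4080) : 17 ∈ charDegrees S := by
  classical
  let F := GaloisField 2 4
  letI : Fintype F := Fintype.ofFinite F
  have hF : Fintype.card F = 16 := by
    rw [← Nat.card_eq_fintype_card]
    exact (GaloisField.card 2 4 (by norm_num)).trans (by norm_num)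
  have e := Cfsg.Agent.S0981.result h (F := F) hF
  obtain ⟨⟨-, h1, -⟩, -⟩ := CfsgLib.Sl2Chars.charDegrees_facts (Or.inl e)
    (Or.inr ⟨by rw [hF]; norm_num, inferInstance⟩)
  rwa [hF] at h1

theorem degrees_2520 (h : Nat.card S = 2520) : 14 ∈ charDegrees S ∧ 35 ∈ charDegrees S := by
  classical
  haveI := Fintype.ofFinite S
  obtain ⟨T⟩ := CfsgLib.A7Order.exists_table h
  exact ⟨⟨T.χ 5, (T.deg 5).trans rfl⟩, ⟨T.χ 8, (T.deg 8).trans rfl⟩⟩

end Psl

end CfsgLib.DegreeOrder
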