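import Cfsg.Agent.DegreeOrder.Psl
import Cfsg.Agent.DegreeOrder.Sixty
import Cfsg.Agent.DegreeOrder.L33Order
import Cfsg.Agent.OrderSieve.Small55
import Cfsg.Agent.S0496
import Cfsg.Agent.S0983
import Cfsg.Agent.S0984
import Cfsg.Agent.S3669

/-!
# Simple groups of order below 6000, order and degree graph
-/

set_option autoImplicit false
set_option linter.style.haveILetI false

namespace CfsgLib.DegreeOrder

open Cfsg CfsgLib.Chars Subgroup

universe u v

theorem classified : Classified.{u} := by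
  intro T _ _ _ hc hlt
  simp only [simpleOrders, List.mem_cons, List.not_mem_nil, or_false]
  by_cases h1 : Nat.card T ≤ 1092
  · rcases Cfsg.Agent.S0496.result hc h1 with e | e | e | e | e | e <;> simp [e]
  by_cases h2 : Nat.card T ≤ 3640
  · rcases CfsgLib.OrderSieve.small_orders hc (by omega) h2 with e | e | e <;> simp [e]
  rcases Cfsg.Agent.S0983.result hc (by omega) (by omega) with e | e | e | e
  · simp [e]
  · simp [e]
  all_goals omega

theorem noPair_of_mem {N : ℕ} (h : N ∈ simpleOrders) : NoPair N := by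
  have : ∀ N ∈ simpleOrders, ∀ m ∈ simpleOrders, ∀ m' ∈ simpleOrders, N % (m * m') ≠ 0 := by decide
  exact fun m hm m' hm' hd => this N h m hm m' hm' (Nat.mod_eq_zero_of_dvd hd)

/-- The only possible orders of a proper simple section. -/
theorem sections_of_dvd {N m : ℕ} (hN : N ∈ simpleOrders) (hm : m ∈ simpleOrders) (hd : m ∣ N) :
    m = N ∨ N = 360 ∧ m = 60 ∨ N = 504 ∧ m = 168 ∨
      (N = 660 ∨ N = 3420 ∨ N = 4080) ∧ m = 60 ∨ N = 2520 ∧ (m = 60 ∨ m = 360) ∨
      N = 2520 ∧ (m = 168 ∨ m = 504) := by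
  have : ∀ N ∈ simpleOrders, ∀ m ∈ simpleOrders, N % m = 0 → m = N ∨ N = 360 ∧ m = 60 ∨ N = 504 ∧ m = 168 ∨
      (N = 660 ∨ N = 3420 ∨ N = 4080) ∧ m = 60 ∨ N = 2520 ∧ (m = 60 ∨ m = 360) ∨
      N = 2520 ∧ (m = 168 ∨ m = 504) := by decide
  exact this N hN m hm (Nat.mod_eq_zero_of_dvd hd)

theorem charDegrees_of_degreePrimes {S : Type u} [Group S] {G : Type v} [Group G] {p q : ℕ} (hp : p.Prime)
    (hq : q.Prime) (hne : p ≠ q) (hE : degreeGraph G = degreeGraph S) :
    (∃ d ∈ charDegrees G, p * q ∣ d) ↔ ∃ d ∈ charDegrees S, p * q ∣ d := by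
  have h : (degreeGraph G).Adj p q ↔ (degreeGraph S).Adj p q := by rw [hE]
  exact ⟨fun hd => (h.1 ⟨hne, hp, hq, hd⟩).2.2.2, fun hd => (h.2 ⟨hne, hp, hq, hd⟩).2.2.2⟩

theorem nonempty_mulEquiv_60 {S : Type u} [Group S] [Finite S] [IsSimpleGroup S] (h : Nat.card S = 60)
    {G : Type v} [Group G] [Finite G] (hcard : Nat.card G = 60) (hπ : degreePrimes G = degreePrimes S)
    (hE : degreeGraph G = degreeGraph S) : Nonempty (G ≃* S) := by
  obtain ⟨e⟩ := Cfsg.Agent.S0494.result h
  have hd : charDegrees S = charDegrees (alternatingGroup (Fin 5)) := CfsgLib.Sl2Chars.charDegrees_congr e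
  obtain ⟨f⟩ := Cfsg.Agent.S3669.result hcard ⟨by rw [hπ]; simp only [degreePrimes, hd], by
    rw [hE]
    ext p q
    simp only [degreeGraph, hd]⟩
  exact ⟨f.trans e.symm⟩

/-- Two simple groups of one of these orders are isomorphic. -/
theorem nonempty_mulEquiv_of_card_eq {S : Type u} [Group S] [Finite S] [IsSimpleGroup S]
    {G : Type v} [Group G] [Finite G] [IsSimpleGroup G] (hcard : Nat.card G = Nat.card S)
    (hm : Nat.card S ∈ simpleOrders) : Nonempty (G ≃* S) := by
  classical
  simp only [simpleOrders, List.mem_cons, List.not_mem_nil, or_false] at hm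
  rcases hm with e | e | e | e | e | e | e | e | e | e | e <;> have e' := hcard.trans e
  · exact (Cfsg.Agent.S0494.result e').elim fun a => (Cfsg.Agent.S0494.result e).elim fun b => ⟨a.trans b.symm⟩
  · exact (Cfsg.Agent.S0495.result e' (F := ZMod 7) (ZMod.card 7)).elim fun a =>
      (Cfsg.Agent.S0495.result e (F := ZMod 7) (ZMod.card 7)).elim fun b => ⟨a.trans b.symm⟩
  · exact (Cfsg.Agent.S0497.result e').elim fun a => (Cfsg.Agent.S0497.result e).elim fun b => ⟨a.trans b.symm⟩
  · let F := GaloisField 2 3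
    letI : Fintype F := Fintype.ofFinite F
    have hF : Fintype.card F = 8 := by
      rw [← Nat.card_eq_fintype_card]
      exact (GaloisField.card 2 3 (by norm_num)).trans (by norm_num)
    exact (Cfsg.Agent.S1011.result e' (F := F) hF).elim fun a =>
      (Cfsg.Agent.S1011.result e (F := F) hF).elim fun b => ⟨a.trans b.symm⟩
  · exact (Cfsg.Agent.S0498.result (G := G) 11 (Or.inl rfl) (by rw [e']; norm_num) (F := ZMod 11) (ZMod.card 11)).elim fun a =>
      (Cfsg.Agent.S0498.result (G := S) 11 (Or.inl rfl) (by rw [e]; norm_num) (F := ZMod 11) (ZMod.card 11)).elim fun b =>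
        ⟨a.trans b.symm⟩
  · exact (Cfsg.Agent.S0498.result (G := G) 13 (Or.inr rfl) (by rw [e']; norm_num) (F := ZMod 13) (ZMod.card 13)).elim fun a =>
      (Cfsg.Agent.S0498.result (G := S) 13 (Or.inr rfl) (by rw [e]; norm_num) (F := ZMod 13) (ZMod.card 13)).elim fun b =>
        ⟨a.trans b.symm⟩
  · exact (Cfsg.Agent.S1020.result e' (F := ZMod 17) (ZMod.card 17)).elim fun a =>
      (Cfsg.Agent.S1020.result e (F := ZMod 17) (ZMod.card 17)).elim fun b => ⟨a.trans b.symm⟩
  · exact (Cfsg.Agent.S0984.result e').elim fun a => (Cfsg.Agent.S0984.result e).elim fun b => ⟨a.trans b.symm⟩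
  · exact (Cfsg.Agent.S1021.result e' (F := ZMod 19) (ZMod.card 19)).elim fun a =>
      (Cfsg.Agent.S1021.result e (F := ZMod 19) (ZMod.card 19)).elim fun b => ⟨a.trans b.symm⟩
  · let F := GaloisField 2 4
    letI : Fintype F := Fintype.ofFinite F
    have hF : Fintype.card F = 16 := by
      rw [← Nat.card_eq_fintype_card]
      exact (GaloisField.card 2 4 (by norm_num)).trans (by norm_num)
    exact (Cfsg.Agent.S0981.result e' (F := F) hF).elim fun a =>
      (Cfsg.Agent.S0981.result e (F := F) hF).elim fun b => ⟨a.trans b.symm⟩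
  · exact L33.nonempty_mulEquiv_5616 e' e

/-- The prime, the exceptional order and the second prime used for each simple order. -/
theorem exists_solvable_data {S : Type u} [Group S] [Finite S] [IsSimpleGroup S]
    (hm : Nat.card S ∈ simpleOrders) (h60 : Nat.card S ≠ 60) :
    ∃ p q Q : ℕ, p.Prime ∧ q.Prime ∧ Good (Nat.card S) p Q ∧ p ∣ Nat.card S ∧ q ∣ Q ∧
      p ∈ degreePrimes S ∧ q ∈ degreePrimes S := by
  simp only [simpleOrders, List.mem_cons, List.not_mem_nil, or_false] at hm
  rcases hm with e | e | e | e | e | e | e | e | e | e | e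
  · exact absurd e h60
  · obtain ⟨-, h7, h8⟩ := degrees_168 e
    exact ⟨7, 2, 8, by norm_num, Nat.prime_two, e ▸ good_of_check (by decide +kernel), by rw [e]; norm_num,
      by norm_num, mem_degreePrimes_of_dvd h7 (by norm_num) dvd_rfl,
      mem_degreePrimes_of_dvd h8 Nat.prime_two (by norm_num)⟩
  · obtain ⟨h10, -⟩ := degrees_360 e
    exact ⟨5, 5, 0, by norm_num, by norm_num, e ▸ good_of_check (by decide +kernel), by rw [e]; norm_num,
      dvd_zero _, mem_degreePrimes_of_dvd h10 (by norm_num) (by norm_num),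
      mem_degreePrimes_of_dvd h10 (by norm_num) (by norm_num)⟩
  · obtain ⟨h7, h8, -⟩ := degrees_504 e
    exact ⟨7, 2, 8, by norm_num, Nat.prime_two, e ▸ good_of_check (by decide +kernel), by rw [e]; norm_num,
      by norm_num, mem_degreePrimes_of_dvd h7 (by norm_num) dvd_rfl,
      mem_degreePrimes_of_dvd h8 Nat.prime_two (by norm_num)⟩
  · exact ⟨11, 11, 0, by norm_num, by norm_num, e ▸ good_of_check (by decide +kernel), by rw [e]; norm_num,
      dvd_zero _, mem_degreePrimes_of_dvd (degrees_660 e) (by norm_num) dvd_rfl,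
      mem_degreePrimes_of_dvd (degrees_660 e) (by norm_num) dvd_rfl⟩
  · exact ⟨13, 13, 0, by norm_num, by norm_num, e ▸ good_of_check (by decide +kernel), by rw [e]; norm_num,
      dvd_zero _, mem_degreePrimes_of_dvd (degrees_1092 e) (by norm_num) dvd_rfl,
      mem_degreePrimes_of_dvd (degrees_1092 e) (by norm_num) dvd_rfl⟩
  · exact ⟨17, 17, 0, by norm_num, by norm_num, e ▸ good_of_check (by decide +kernel), by rw [e]; norm_num,
      dvd_zero _, mem_degreePrimes_of_dvd (degrees_2448 e) (by norm_num) dvd_rfl,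
      mem_degreePrimes_of_dvd (degrees_2448 e) (by norm_num) dvd_rfl⟩
  · obtain ⟨-, h35⟩ := degrees_2520 e
    exact ⟨5, 5, 0, by norm_num, by norm_num, e ▸ good_of_check (by decide +kernel), by rw [e]; norm_num,
      dvd_zero _, mem_degreePrimes_of_dvd h35 (by norm_num) (by norm_num),
      mem_degreePrimes_of_dvd h35 (by norm_num) (by norm_num)⟩
  · exact ⟨19, 19, 0, by norm_num, by norm_num, e ▸ good_of_check (by decide +kernel), by rw [e]; norm_num,
      dvd_zero _, mem_degreePrimes_of_dvd (degrees_3420 e) (by norm_num) dvd_rfl,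
      mem_degreePrimes_of_dvd (degrees_3420 e) (by norm_num) dvd_rfl⟩
  · exact ⟨17, 17, 0, by norm_num, by norm_num, e ▸ good_of_check (by decide +kernel), by rw [e]; norm_num,
      dvd_zero _, mem_degreePrimes_of_dvd (degrees_4080 e) (by norm_num) dvd_rfl,
      mem_degreePrimes_of_dvd (degrees_4080 e) (by norm_num) dvd_rfl⟩
  · obtain ⟨h3, h13⟩ := L33.degreePrimes_5616 e
    exact ⟨13, 3, 27, by norm_num, Nat.prime_three, e ▸ good_of_check (by decide +kernel), by rw [e]; norm_num,
      by norm_num, h13, h3⟩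

theorem nonempty_mulEquiv_of_degreeGraph {S : Type u} [Group S] [Finite S] [IsSimpleGroup S]
    (hS : ¬ IsMulCommutative S) (hlt : Nat.card S < 6000) {G : Type v} [Group G] [Finite G]
    (hcard : Nat.card G = Nat.card S) (hπ : degreePrimes G = degreePrimes S)
    (hE : degreeGraph G = degreeGraph S) : Nonempty (G ≃* S) := by
  classical
  have hm := classified S hS hlt
  by_cases h60 : Nat.card S = 60
  · exact nonempty_mulEquiv_60 h60 (hcard.trans h60) hπ hE
  obtain ⟨p, q, Q, hp, hq, hg, hpd, hqQ, hpπ, hqπ⟩ := exists_solvable_data hm h60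
  haveI := Fact.mk hp
  rw [← hπ] at hpπ hqπ
  rw [← hcard] at hg hpd
  have hsol : ¬ Group.IsSolvable G := fun h =>
    false_of_hasSpecial hp hq hg hqQ hpπ hqπ
      (hasSpecial_of_solvable Nat.card_pos.ne' hp hg _ G rfl h dvd_rfl hpd)
  obtain ⟨R, hRn, hR, M, hMn, hMs, -, hC, hMm⟩ :=
    exists_radical classified classified (hcard ▸ hlt) (noPair_of_mem (hcard ▸ hm)) hsol
  haveI := hMn
  haveI := hMs
  have hq' : Nat.card (G ⧸ R) ∣ Nat.card G := R.index_dvd_card
  have hMd : Nat.card M ∣ Nat.card G := (Subgroup.card_subgroup_dvd_card M).trans hq'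
  rcases sections_of_dvd (hcard ▸ hm) hMm hMd with hM | ⟨hN, hM⟩ | ⟨hN, hM⟩ | ⟨hN, hM⟩ | ⟨hN, hM⟩ | ⟨hN, hM⟩
  · -- the group is simple
    have hpos : 0 < Nat.card G := Nat.card_pos
    have hqle : Nat.card (G ⧸ R) ≤ Nat.card G := Nat.le_of_dvd hpos hq'
    have hMle : Nat.card M ≤ Nat.card (G ⧸ R) := Subgroup.card_le_card_group M
    have hMtop : M = ⊤ := Subgroup.eq_top_of_card_eq M (by omega)
    have hidx : R.index = Nat.card (G ⧸ R) := rfl
    have hRb : R = ⊥ := by
      rw [← Subgroup.card_eq_one]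
      refine Nat.eq_of_mul_eq_mul_right hpos ?_
      rw [one_mul]
      conv_rhs => rw [← R.card_mul_index, hidx, show Nat.card (G ⧸ R) = Nat.card G by omega]
    let e : M ≃* G :=
      ((MulEquiv.subgroupCongr hMtop).trans Subgroup.topEquiv).trans
        ((QuotientGroup.quotientMulEquivOfEq hRb).trans QuotientGroup.quotientBot)
    haveI := CfsgLib.MinNormal.isSimpleGroup_congr e hMs
    exact nonempty_mulEquiv_of_card_eq hcard hm
  all_goals exfalso
  · -- order 360, section of order 60
    obtain ⟨h10, h6⟩ := degrees_360 (hcard.symm.trans hN)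
    obtain ⟨d, ⟨χ, rfl⟩, hd⟩ := (charDegrees_of_degreePrimes (p := 2) (q := 5) Nat.prime_two (by norm_num)
      (by norm_num) hE).2 ⟨10, h10, dvd_rfl⟩
    refine false_360 hN ⟨χ, hd⟩ (fun ψ h => ?_) hC hM
    obtain ⟨d, hd, hd'⟩ := (charDegrees_of_degreePrimes (p := 2) (q := 3) Nat.prime_two Nat.prime_three
      (by norm_num) hE).1 ⟨_, ⟨ψ, rfl⟩, h⟩
    exact h6 d hd hd'
  · -- order 504, section of order 168
    obtain ⟨-, -, h6⟩ := degrees_504 (hcard.symm.trans hN)
    obtain ⟨⟨θ, hθ⟩, -⟩ := degrees_168 hM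
    obtain ⟨χ, hχ⟩ := exists_dvd_charDegree θ
    obtain ⟨d, hd, hd'⟩ := (charDegrees_of_degreePrimes (p := 2) (q := 3) Nat.prime_two Nat.prime_three
      (by norm_num) hE).1 ⟨_, ⟨inflate R χ, rfl⟩, by rw [charDegree_inflate]; rw [hθ] at hχ; exact hχ⟩
    exact h6 d hd hd'
  · -- orders 660, 3420 and 4080, section of order 60
    have key : ∀ r, r.Prime → r ∈ degreePrimes G → Good (Nat.card G) r 0 → r ∣ Nat.card G →
        actCheck 60 r = true → False := fun r hr hrπ hgr hrd hchk => by
      haveI := Fact.mk hr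
      exact false_of_hasSpecial hr hr hgr (dvd_zero _) hrπ hrπ
        (hasSpecial_of_radical hgr hrd hR hC (hM.symm ▸ hchk))
    rcases hN with hN | hN | hN <;> have hS' := hcard.symm.trans hN
    · exact key 11 (by norm_num) (hπ ▸ mem_degreePrimes_of_dvd (degrees_660 hS') (by norm_num) dvd_rfl)
        (hN ▸ good_of_check (by decide +kernel)) (by rw [hN]; norm_num) (by decide +kernel)
    · exact key 19 (by norm_num) (hπ ▸ mem_degreePrimes_of_dvd (degrees_3420 hS') (by norm_num) dvd_rfl)
        (hN ▸ good_of_check (by decide +kernel)) (by rw [hN]; norm_num) (by decide +kernel)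
    · exact key 17 (by norm_num) (hπ ▸ mem_degreePrimes_of_dvd (degrees_4080 hS') (by norm_num) dvd_rfl)
        (hN ▸ good_of_check (by decide +kernel)) (by rw [hN]; norm_num) (by decide +kernel)
  · -- order 2520, sections of order 60 and 360
    obtain ⟨h14, -⟩ := degrees_2520 (hcard.symm.trans hN)
    have hgr : Good (Nat.card G) 7 8 := hN ▸ good_of_check (by decide +kernel)
    have h := hasSpecial_of_radical (p := 7) hgr (by rw [hN]; norm_num) hR hC
      (by rcases hM with hM | hM <;> rw [hM] <;> decide +kernel)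
    exact false_of_hasSpecial (by norm_num) Nat.prime_two hgr (by norm_num)
      (hπ ▸ mem_degreePrimes_of_dvd h14 (by norm_num) (by norm_num))
      (hπ ▸ mem_degreePrimes_of_dvd h14 Nat.prime_two (by norm_num)) h
  · -- order 2520, sections of order 168 and 504
    obtain ⟨-, h35⟩ := degrees_2520 (hcard.symm.trans hN)
    haveI : Fact (Nat.Prime 5) := ⟨by norm_num⟩
    have hgr : Good (Nat.card G) 5 0 := hN ▸ good_of_check (by decide +kernel)
    have h := hasSpecial_of_radical (p := 5) hgr (by rw [hN]; norm_num) hR hC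
      (by rcases hM with hM | hM <;> rw [hM] <;> decide +kernel)
    have h5 : 5 ∈ degreePrimes G := hπ ▸ mem_degreePrimes_of_dvd h35 (by norm_num) (by norm_num)
    exact false_of_hasSpecial (by norm_num) (by norm_num : Nat.Prime 5) hgr (dvd_zero _) h5 h5 h

end CfsgLib.DegreeOrder
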